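import Mathlib
import Cfsg.Agent.S3975
import Cfsg.Agent.Lib.MaximalClass
import Cfsg.Agent.Lib.Elementary
import Cfsg.Agent.Lib.SmallElements
import Cfsg.Agent.Lib.PGroup.CyclicMax

/-!
Kulakoff's theorem on the number of subgroups of given order of a `p`-group.
-/

set_option autoImplicit false
set_option maxHeartbeats 1000000

namespace CfsgLib.Kulakoff

open scoped commutatorElement

universe u

/-- The number of subgroups of order `p ^ k`. -/
noncomputable def cnt (G : Type u) [Group G] (p k : ℕ) : ℕ := Nat.card {H : Subgroup G // Nat.card H = p ^ k}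

/-- A `2`-group with a four-group as commutator quotient. -/
def MC (G : Type u) [Group G] : Prop := 8 ≤ Nat.card G ∧ (commutator G).index = 4

/-- The groups with `1 + p` subgroups of order `p ^ k`, modulo `p ^ 2`. -/
def Good (G : Type u) [Group G] (p k : ℕ) : Prop :=
  ¬ IsCyclic G ∧ ¬ (p = 2 ∧ MC G ∧ p ^ (k + 2) ≤ Nat.card G)

variable {G : Type u} [Group G] [Finite G] {p : ℕ} [hp : Fact p.Prime]

theorem cnt_cyclic {G : Type u} [Group G] [Finite G] [IsCyclic G] {p k : ℕ} (hk : p ^ k ∣ Nat.card G) (hp0 : p ≠ 0) :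
    cnt G p k = 1 := by
  classical
  haveI := Fintype.ofFinite G
  rw [cnt, Nat.card_eq_one_iff_unique]
  have hd0 : 0 < p ^ k := pow_pos (Nat.pos_of_ne_zero hp0) k
  obtain ⟨g, hg⟩ := IsCyclic.exists_generator (α := G)
  have ho : orderOf g = Nat.card G := orderOf_eq_card_of_forall_mem_zpowers hg
  have huniq : ∀ H : {H : Subgroup G // Nat.card H = p ^ k}, ∀ x : G, x ∈ H.1 ↔ x ^ p ^ k = 1 := fun H => by
    have hsub : (H.1 : Set G) ⊆ {x : G | x ^ p ^ k = 1} := fun x hx =>
      orderOf_dvd_iff_pow_eq_one.mp ((Subgroup.orderOf_dvd_natCard H.1 hx).trans H.2.dvd)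
    have hle : ({x : G | x ^ p ^ k = 1}).ncard ≤ (H.1 : Set G).ncard := by
      rw [← Nat.card_coe_set_eq (H.1 : Set G)]
      refine le_of_le_of_eq ?_ H.2.symm
      rw [← Finset.coe_filter_univ, Set.ncard_coe_finset]
      exact IsCyclic.card_pow_eq_one_le hd0
    have := Set.eq_of_subset_of_ncard_le hsub hle (Set.toFinite _)
    intro x
    rw [← SetLike.mem_coe, this]
    rfl
  refine ⟨⟨fun H K => Subtype.ext (Subgroup.ext fun x => (huniq H x).trans (huniq K x).symm)⟩, ⟨⟨Subgroup.zpowers (g ^ (Nat.card G / p ^ k)), ?_⟩⟩⟩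
  rw [Nat.card_zpowers, orderOf_pow, ho, Nat.gcd_eq_right (Nat.div_dvd_of_dvd hk), Nat.div_div_self hk Nat.card_pos.ne']

/-- The subgroups of index `p` over a normal subgroup with elementary abelian quotient. -/
theorem hyperplanes (N : Subgroup G) [N.Normal] (hcom : ∀ x y : G, ⁅x, y⁆ ∈ N) (hpow : ∀ x : G, x ^ p ∈ N) :
    (p - 1) * Nat.card {M : Subgroup G // M.index = p ∧ N ≤ M} + 1 = Nat.card (G ⧸ N) := by
  classical
  have hhom : ∀ (N : Subgroup G) [N.Normal], (∀ x y : G, ⁅x, y⁆ ∈ N) → (∀ x : G, x ^ p ∈ N) →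
      Nat.card {f : G →* Multiplicative (ZMod p) // N ≤ f.ker} = Nat.card (G ⧸ N) := by
    intro N _ hcom hpow
    letI : CommGroup (G ⧸ N) :=
      { (inferInstance : Group (G ⧸ N)) with
        mul_comm := fun a b => by
          obtain ⟨a, rfl⟩ := QuotientGroup.mk_surjective a
          obtain ⟨b, rfl⟩ := QuotientGroup.mk_surjective b
          show ((a * b : G) : G ⧸ N) = ((b * a : G) : G ⧸ N)
          rw [QuotientGroup.eq, show (a * b)⁻¹ * (b * a) = ⁅b⁻¹, a⁻¹⁆ by rw [commutatorElement_def]; group]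
          exact hcom _ _ }
    have hexp : ∀ x : Additive (G ⧸ N), p • x = 0 := fun x => by
      obtain ⟨a, ha⟩ := QuotientGroup.mk_surjective (Additive.toMul x)
      apply Additive.toMul.injective
      rw [toMul_nsmul, ← ha, toMul_zero, ← QuotientGroup.mk_pow, QuotientGroup.eq_one_iff]
      exact hpow a
    letI : Module (ZMod p) (Additive (G ⧸ N)) := AddCommGroup.zmodModule (n := p) (G := Additive (G ⧸ N)) hexp
    let e₁ : {f : G →* Multiplicative (ZMod p) // N ≤ f.ker} ≃ (G ⧸ N →* Multiplicative (ZMod p)) :=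
      { toFun := fun f => QuotientGroup.lift N f.1 f.2
        invFun := fun f => ⟨f.comp (QuotientGroup.mk' N), fun x hx => by
          rw [MonoidHom.mem_ker, MonoidHom.comp_apply, QuotientGroup.mk'_apply, (QuotientGroup.eq_one_iff x).mpr hx,
            map_one]⟩
        left_inv := fun f => Subtype.ext (MonoidHom.ext fun x => rfl)
        right_inv := fun f => MonoidHom.ext fun x => by
          obtain ⟨a, rfl⟩ := QuotientGroup.mk_surjective x
          rfl }
    let e₂ : (G ⧸ N →* Multiplicative (ZMod p)) ≃ (Additive (G ⧸ N) →+ ZMod p) := MonoidHom.toAdditiveLeft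
    let e₃ : (Additive (G ⧸ N) →+ ZMod p) ≃ Module.Dual (ZMod p) (Additive (G ⧸ N)) :=
      { toFun := fun f => f.toZModLinearMap p
        invFun := fun f => f.toAddMonoidHom
        left_inv := fun f => rfl
        right_inv := fun f => rfl }
    rw [Nat.card_congr ((e₁.trans e₂).trans e₃), Module.natCard_eq_pow_finrank (K := ZMod p),
      Subspace.dual_finrank_eq, ← Module.natCard_eq_pow_finrank]
    rfl
  haveI : Finite (Multiplicative (ZMod p)) := Finite.of_equiv _ Multiplicative.ofAdd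
  have hHfin : Finite (G →* Multiplicative (ZMod p)) := Finite.of_injective _ DFunLike.coe_injective
  have hcardp : Nat.card (Multiplicative (ZMod p)) = p := by rw [Nat.card_congr Multiplicative.toAdd, Nat.card_zmod]
  -- the nontrivial homomorphisms by kernel
  let A := {f : G →* Multiplicative (ZMod p) // N ≤ f.ker}
  have hker : ∀ f : A, f.1 ≠ 1 → f.1.ker.index = p := fun f hf => by
    rw [Subgroup.index_ker]
    rcases (Nat.dvd_prime hp.out).mp ((Subgroup.card_subgroup_dvd_card f.1.range).trans hcardp.dvd) with h | h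
    · exfalso
      refine hf (MonoidHom.ext fun x => ?_)
      have hx : f.1 x ∈ f.1.range := ⟨x, rfl⟩
      rw [Subgroup.card_eq_one.mp h, Subgroup.mem_bot] at hx
      simpa using hx
    · exact h
  let e : {f : A // f.1 ≠ 1} ≃ Σ M : {M : Subgroup G // M.index = p ∧ N ≤ M}, {f : A // f.1 ≠ 1 ∧ f.1.ker = M.1} :=
    { toFun := fun f => ⟨⟨f.1.1.ker, hker f.1 f.2, f.1.2⟩, f.1, f.2, rfl⟩
      invFun := fun s => ⟨s.2.1, s.2.2.1⟩
      left_inv := fun f => rfl
      right_inv := fun s => Sigma.subtype_ext (Subtype.ext s.2.2.2) rfl }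
  have hfib : ∀ M : {M : Subgroup G // M.index = p ∧ N ≤ M}, Nat.card {f : A // f.1 ≠ 1 ∧ f.1.ker = M.1} = p - 1 := by
    rintro ⟨M, hMi, hNM⟩
    haveI : M.Normal := ⟨fun m hm g => by
      rw [show g * m * g⁻¹ = ⁅g, m⁆ * m by rw [commutatorElement_def, inv_mul_cancel_right]]
      exact mul_mem (hNM (hcom g m)) hm⟩
    have h1 := hhom M (fun x y => hNM (hcom x y)) (fun x => hNM (hpow x))
    rw [show Nat.card (G ⧸ M) = p from hMi] at h1
    have e' : {f : A // f.1 ≠ 1 ∧ f.1.ker = M} ≃
        {f : {f : G →* Multiplicative (ZMod p) // M ≤ f.ker} // f ≠ ⟨1, by simp⟩} :=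
      { toFun := fun f => ⟨⟨f.1.1, f.2.2.ge⟩, fun h => f.2.1 (congrArg Subtype.val h)⟩
        invFun := fun f => ⟨⟨f.1.1, hNM.trans f.1.2⟩, fun h => f.2 (Subtype.ext h), by
          have hne : f.1.1 ≠ 1 := fun h => f.2 (Subtype.ext h)
          refine (Subgroup.eq_of_le_of_card_ge f.1.2 ?_).symm
          have h2 := f.1.1.ker.card_mul_index
          rw [hker ⟨f.1.1, hNM.trans f.1.2⟩ hne, ← M.card_mul_index, hMi] at h2
          exact (Nat.eq_of_mul_eq_mul_right hp.out.pos h2).le⟩
        left_inv := fun f => rfl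
        right_inv := fun f => rfl }
    haveI := Fintype.ofFinite {f : G →* Multiplicative (ZMod p) // M ≤ f.ker}
    rw [Nat.card_congr e', Nat.card_eq_fintype_card, Fintype.card_subtype_compl, Fintype.card_subtype_eq,
      ← Nat.card_eq_fintype_card, h1]
  haveI := Fintype.ofFinite {M : Subgroup G // M.index = p ∧ N ≤ M}
  haveI := Fintype.ofFinite A
  have h2 : Nat.card {f : A // f.1 ≠ 1} = Nat.card {M : Subgroup G // M.index = p ∧ N ≤ M} * (p - 1) := by
    rw [Nat.card_congr e, Nat.card_sigma, Finset.sum_congr rfl fun M _ => hfib M, Finset.sum_const, Finset.card_univ,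
      ← Nat.card_eq_fintype_card, smul_eq_mul]
  haveI : Nonempty A := ⟨⟨1, by simp⟩⟩
  have h3 : Nat.card {f : A // f.1 ≠ 1} + 1 = Nat.card (G ⧸ N) := by
    rw [← hhom N hcom hpow, Nat.card_eq_fintype_card, Nat.card_eq_fintype_card,
      show Fintype.card {f : A // f.1 ≠ 1} = Fintype.card {f : A // ¬ f = ⟨1, by simp⟩} from
        Fintype.card_congr (Equiv.subtypeEquivRight fun f => not_congr ⟨fun h => Subtype.ext h, fun h => congrArg Subtype.val h⟩),
      Fintype.card_subtype_compl, Fintype.card_subtype_eq, Nat.sub_add_cancel Fintype.card_pos]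
  rw [← h3, h2, mul_comm]

theorem index_frattini (hG : IsPGroup p G) (hnc : ¬ IsCyclic G) : (frattini G).index ≠ p ∧ (frattini G).index ≠ 1 := by
  have key : ∀ x : G, Subgroup.zpowers x ⊔ frattini G = ⊤ → IsCyclic G := fun x h =>
    ⟨⟨x, fun g => (frattini_nongenerating h).ge (Subgroup.mem_top g)⟩⟩
  constructor
  · intro h
    have hc : Nat.card (G ⧸ frattini G) = p := h
    haveI := isCyclic_of_prime_card hc
    obtain ⟨y, hy⟩ := IsCyclic.exists_generator (α := G ⧸ frattini G)
    obtain ⟨x, rfl⟩ := QuotientGroup.mk_surjective y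
    refine hnc (key x (eq_top_iff.mpr fun g _ => ?_))
    obtain ⟨i, hi⟩ := Subgroup.mem_zpowers_iff.mp (hy (g : G ⧸ frattini G))
    rw [← QuotientGroup.mk_zpow] at hi
    rw [← mul_inv_cancel_left (x ^ i) g]
    exact Subgroup.mul_mem_sup (Subgroup.zpow_mem _ (Subgroup.mem_zpowers x) i) (QuotientGroup.eq.mp hi)
  · intro h
    refine hnc (key 1 ?_)
    rw [Subgroup.index_eq_one.mp h, sup_top_eq]

theorem sup_frattini_facts (hG : IsPGroup p G) (H : Subgroup G) :
    (H ⊔ frattini G).Normal ∧ (∀ x y : G, ⁅x, y⁆ ∈ H ⊔ frattini G) ∧ ∀ x : G, x ^ p ∈ H ⊔ frattini G := by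
  refine ⟨⟨fun m hm g => ?_⟩, fun x y => ?_, fun x => Subgroup.mem_sup_right (CfsgLib.pow_mem_frattini_pGroup hG x)⟩
  · rw [show g * m * g⁻¹ = ⁅g, m⁆ * m by rw [commutatorElement_def, inv_mul_cancel_right]]
    exact mul_mem (Subgroup.mem_sup_right (CfsgLib.commutator_le_frattini_pGroup hG
      (Subgroup.commutator_mem_commutator (Subgroup.mem_top g) (Subgroup.mem_top m)))) hm
  · exact Subgroup.mem_sup_right (CfsgLib.commutator_le_frattini_pGroup hG
      (Subgroup.commutator_mem_commutator (Subgroup.mem_top x) (Subgroup.mem_top y)))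

/-- The maximal subgroups over a subgroup, modulo `p ^ 2`. -/
theorem count_over (hG : IsPGroup p G) {H : Subgroup G} (hH : H ≠ ⊤) :
    Nat.card {M : Subgroup G // M.index = p ∧ H ≤ M} ≡ 1 + p * (if (H ⊔ frattini G).index = p then 0 else 1) [MOD p ^ 2] := by
  obtain ⟨hn, hcom, hpow⟩ := sup_frattini_facts hG H
  haveI := hn
  have hco : ∀ M : Subgroup G, M.index = p → frattini G ≤ M := fun M hM =>
    frattini_le_coatom ⟨fun h => hp.out.one_lt.ne (by rw [← hM, h, Subgroup.index_top]), fun K hK => by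
      have h1 : K.index ∣ p := hM ▸ Subgroup.index_dvd_of_le hK.le
      rcases (Nat.dvd_prime hp.out).mp h1 with h | h
      · exact Subgroup.index_eq_one.mp h
      · exact absurd (Subgroup.eq_of_le_of_card_ge hK.le (by
          have := K.card_mul_index
          rw [h, ← M.card_mul_index, hM] at this
          exact (Nat.eq_of_mul_eq_mul_right hp.out.pos this).le)) hK.ne⟩
  have h1 := hyperplanes (p := p) (H ⊔ frattini G) hcom hpow
  have e : Nat.card {M : Subgroup G // M.index = p ∧ H ⊔ frattini G ≤ M} =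
      Nat.card {M : Subgroup G // M.index = p ∧ H ≤ M} :=
    Nat.card_congr (Equiv.subtypeEquivRight fun M =>
      ⟨fun h => ⟨h.1, le_sup_left.trans h.2⟩, fun h => ⟨h.1, sup_le h.2 (hco M h.1)⟩⟩)
  rw [e, show Nat.card (G ⧸ (H ⊔ frattini G)) = (H ⊔ frattini G).index from rfl] at h1
  obtain ⟨r, hr⟩ := hG.index (H ⊔ frattini G)
  have hr0 : r ≠ 0 := fun h => by
    rw [h, pow_zero, Subgroup.index_eq_one] at hr
    exact hH (frattini_nongenerating hr)
  rw [hr] at h1
  have hp1 := hp.out.two_le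
  split
  · rename_i h
    rw [hr] at h
    rw [h] at h1
    have h2 : Nat.card {M : Subgroup G // M.index = p ∧ H ≤ M} = 1 :=
      Nat.eq_of_mul_eq_mul_left (show 0 < p - 1 by omega) (by rw [mul_one]; omega)
    rw [h2, mul_zero, add_zero]
  · rename_i h
    have hr2 : 2 ≤ r := by
      by_contra hlt
      exact h (by rw [hr, show r = 1 by omega, pow_one])
    rw [mul_one]
    set c := Nat.card {M : Subgroup G // M.index = p ∧ H ≤ M}
    rw [← ZMod.natCast_eq_natCast_iff]
    have hpp : ((p : ZMod (p ^ 2)) ^ 2) = 0 := by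
      rw [← Nat.cast_pow, ZMod.natCast_self]
    have h2 := congrArg (Nat.cast : ℕ → ZMod (p ^ 2)) h1
    push_cast [Nat.cast_sub (show 1 ≤ p by omega)] at h2 ⊢
    rw [show (p : ZMod (p ^ 2)) ^ r = 0 by rw [← Nat.sub_add_cancel hr2, pow_add, hpp, mul_zero]] at h2
    linear_combination (-(p : ZMod (p ^ 2)) - 1) * h2 + (c : ZMod (p ^ 2)) * hpp

omit [Finite G] hp in
theorem card_subgroups_le {k : ℕ} (M : Subgroup G) :
    cnt M p k = Nat.card {H : {H : Subgroup G // Nat.card H = p ^ k} // H.1 ≤ M} := by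
  refine Nat.card_congr
    { toFun := fun H => ⟨⟨H.1.map M.subtype, by rw [Subgroup.card_map_of_injective M.subtype_injective, H.2]⟩,
        Subgroup.map_subtype_le _⟩
      invFun := fun H => ⟨H.1.1.subgroupOf M, by rw [Nat.card_congr (Subgroup.subgroupOfEquivOfLe H.2).toEquiv, H.1.2]⟩
      left_inv := fun H => Subtype.ext (Subgroup.comap_map_eq_self_of_injective M.subtype_injective H.1)
      right_inv := fun H => Subtype.ext (Subtype.ext ?_) }
  show (H.1.1.subgroupOf M).map M.subtype = H.1.1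
  rw [Subgroup.subgroupOf_map_subtype, inf_eq_left.mpr H.2]

theorem sum_comm' {α β : Type u} [Fintype α] [Finite β] (R : α → β → Prop) :
    ∑ a, Nat.card {b // R a b} = Nat.card {z : α × β // R z.1 z.2} := by
  classical
  rw [← Nat.card_sigma]
  exact Nat.card_congr
    { toFun := fun s => ⟨(s.1, s.2.1), s.2.2⟩
      invFun := fun z => ⟨z.1.1, z.1.2, z.2⟩
      left_inv := fun s => rfl
      right_inv := fun z => rfl }

/-- Hall's enumeration, modulo `p ^ 2`. -/
theorem enumeration (hG : IsPGroup p G) (hnc : ¬ IsCyclic G) {k : ℕ} (hk : p ^ (k + 2) ≤ Nat.card G)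
    [Fintype {M : Subgroup G // M.index = p}] :
    (∑ M : {M : Subgroup G // M.index = p}, cnt M.1 p k) ≡ cnt G p k + p [MOD p ^ 2] := by
  classical
  obtain ⟨m, hm⟩ := IsPGroup.iff_card.mp hG
  have hkm : k + 2 ≤ m := (Nat.pow_le_pow_iff_right hp.out.one_lt).mp (hm ▸ hk)
  let S := {H : Subgroup G // Nat.card H = p ^ k}
  haveI : Fintype S := Fintype.ofFinite S
  have hne : ∀ H : S, H.1 ≠ ⊤ := fun H h => by
    have h1 : Nat.card G = p ^ k := by rw [← H.2, h, Subgroup.card_top]
    rw [hm] at h1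
    have := Nat.pow_right_injective hp.out.two_le h1
    omega
  have hsum : (∑ M : {M : Subgroup G // M.index = p}, cnt M.1 p k) =
      ∑ H : S, Nat.card {M : Subgroup G // M.index = p ∧ H.1 ≤ M} := by
    rw [Finset.sum_congr rfl fun M _ => card_subgroups_le (k := k) M.1, sum_comm',
      Finset.sum_congr rfl fun (H : S) _ => Nat.card_congr (Equiv.subtypeSubtypeEquivSubtypeInter
        (fun M : Subgroup G => M.index = p) (fun M => H.1 ≤ M)).symm,
      sum_comm' (fun (H : S) (M : {M : Subgroup G // M.index = p}) => H.1 ≤ M.1)]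
    exact Nat.card_congr
      { toFun := fun z => ⟨(z.1.2, z.1.1), z.2⟩
        invFun := fun z => ⟨(z.1.2, z.1.1), z.2⟩
        left_inv := fun z => rfl
        right_inv := fun z => rfl }
  -- the subgroups below more than one maximal subgroup
  let c := ∑ H : S, (if (H.1 ⊔ frattini G).index = p then 0 else 1)
  have hc : c ≡ 1 [MOD p] := by
    obtain ⟨hn0, -, -⟩ := sup_frattini_facts hG (⊥ : Subgroup G)
    let T := {N : Subgroup G // frattini G ≤ N ∧ N.index = p ^ 2}
    haveI : Fintype T := Fintype.ofFinite T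
    have hover : ∀ H : Subgroup G, H ≠ ⊤ → Nat.card {N : T // H ≤ N.1} ≡
        (if (H ⊔ frattini G).index = p then 0 else 1) [MOD p] := by
      intro H hH
      haveI := (sup_frattini_facts hG H).1
      set B := H ⊔ frattini G with hB
      obtain ⟨r, hr⟩ := hG.index B
      have hr0 : r ≠ 0 := fun h => by
        rw [h, pow_zero, Subgroup.index_eq_one] at hr
        exact hH (frattini_nongenerating hr)
      split
      · rename_i h
        rw [show Nat.card {N : T // H ≤ N.1} = 0 from ?_]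
        rw [Nat.card_eq_zero]
        refine Or.inl ⟨fun ⟨⟨N, hN1, hN2⟩, hN3⟩ => ?_⟩
        have h1 : N.index ∣ B.index := Subgroup.index_dvd_of_le (sup_le hN3 hN1)
        rw [h, hN2] at h1
        have h2 := Nat.le_of_dvd hp.out.pos h1
        have h3 : p ^ 1 < p ^ 2 := Nat.pow_lt_pow_right hp.out.one_lt one_lt_two
        rw [pow_one] at h3
        omega
      · rename_i h
        have hr2 : 2 ≤ r := by
          by_contra hlt
          exact h (by rw [hr, show r = 1 by omega, pow_one])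
        have hQ : Nat.card (G ⧸ B) = p ^ r := hr
        have e : {N : T // H ≤ N.1} ≃ {K : Subgroup (G ⧸ B) // Nat.card K = p ^ (r - 2)} :=
          { toFun := fun N => ⟨N.1.1.map (QuotientGroup.mk' B), by
              have hle : B ≤ N.1.1 := sup_le N.2 N.1.2.1
              have h1 := (N.1.1.map (QuotientGroup.mk' B)).card_mul_index
              rw [Subgroup.index_map_eq _ (QuotientGroup.mk'_surjective B) (by rw [QuotientGroup.ker_mk']; exact hle),
                N.1.2.2, hQ, show p ^ r = p ^ (r - 2) * p ^ 2 by rw [← pow_add, Nat.sub_add_cancel hr2]] at h1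
              exact Nat.eq_of_mul_eq_mul_right (pow_pos hp.out.pos 2) h1⟩
            invFun := fun K => ⟨⟨K.1.comap (QuotientGroup.mk' B),
              le_sup_right.trans (QuotientGroup.le_comap_mk' B K.1), by
                rw [Subgroup.index_comap_of_surjective _ (QuotientGroup.mk'_surjective B)]
                have h1 := K.1.card_mul_index
                rw [K.2, hQ, show p ^ r = p ^ (r - 2) * p ^ 2 by rw [← pow_add, Nat.sub_add_cancel hr2]] at h1
                exact Nat.eq_of_mul_eq_mul_left (pow_pos hp.out.pos _) h1⟩,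
              le_sup_left.trans (QuotientGroup.le_comap_mk' B K.1)⟩
            left_inv := fun N => Subtype.ext (Subtype.ext (Subgroup.comap_map_eq_self (by
              rw [QuotientGroup.ker_mk']; exact sup_le N.2 N.1.2.1)))
            right_inv := fun K => Subtype.ext (Subgroup.map_comap_eq_self_of_surjective (QuotientGroup.mk'_surjective B) _) }
        rw [Nat.card_congr e]
        exact Cfsg.Agent.S3975.result p (r - 2) hp.out (by rw [hQ]; exact pow_dvd_pow p (Nat.sub_le r 2))
    have hT : Nat.card T ≡ 1 [MOD p] := by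
      have h1 := hover ⊥ (fun h => hnc (by
        haveI : Subsingleton G := ⟨fun a b => by
          have ha : ∀ a : G, a = 1 := fun a => Subgroup.mem_bot.mp (h ▸ Subgroup.mem_top a)
          rw [ha a, ha b]⟩
        exact inferInstance))
      rw [bot_sup_eq, if_neg (index_frattini hG hnc).1] at h1
      rwa [Nat.card_congr (Equiv.subtypeUnivEquiv fun N => bot_le)] at h1
    have hdc : (∑ H : S, Nat.card {N : T // H.1 ≤ N.1}) = ∑ N : T, cnt N.1 p k := by
      rw [sum_comm', Finset.sum_congr rfl fun (N : T) _ => card_subgroups_le (k := k) N.1,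
        sum_comm' (fun (N : T) (H : S) => H.1 ≤ N.1)]
      exact Nat.card_congr
        { toFun := fun z => ⟨(z.1.2, z.1.1), z.2⟩
          invFun := fun z => ⟨(z.1.2, z.1.1), z.2⟩
          left_inv := fun z => rfl
          right_inv := fun z => rfl }
    rw [← ZMod.natCast_eq_natCast_iff] at hT ⊢
    rw [← hT]
    calc (c : ZMod p) = ∑ H : S, ((Nat.card {N : T // H.1 ≤ N.1} : ℕ) : ZMod p) := by
          rw [Nat.cast_sum]
          exact Finset.sum_congr rfl fun H _ => ((ZMod.natCast_eq_natCast_iff _ _ _).mpr (hover H.1 (hne H))).symm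
      _ = ∑ N : T, ((cnt N.1 p k : ℕ) : ZMod p) := by rw [← Nat.cast_sum, hdc, Nat.cast_sum]
      _ = ∑ _N : T, 1 := by
          refine Finset.sum_congr rfl fun N _ => ?_
          rw [← Nat.cast_one, ZMod.natCast_eq_natCast_iff]
          refine Cfsg.Agent.S3975.result p k hp.out ?_
          have h1 := N.1.card_mul_index
          rw [N.2.2, hm, ← Nat.sub_add_cancel (show 2 ≤ m by omega), pow_add] at h1
          rw [Nat.eq_of_mul_eq_mul_right (pow_pos hp.out.pos 2) h1]
          exact pow_dvd_pow p (by omega)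
      _ = (Nat.card T : ZMod p) := by
          rw [Finset.sum_const, Finset.card_univ, Nat.card_eq_fintype_card, nsmul_eq_mul, mul_one]
  have h2 : (∑ H : S, Nat.card {M : Subgroup G // M.index = p ∧ H.1 ≤ M}) ≡ Nat.card S + p * c [MOD p ^ 2] := by
    rw [← ZMod.natCast_eq_natCast_iff, Nat.cast_sum, Finset.sum_congr rfl fun (H : S) _ =>
      ((ZMod.natCast_eq_natCast_iff _ _ _).mpr (count_over hG (hne H)))]
    simp only [c, Nat.cast_add, Nat.cast_mul, Nat.cast_sum, Finset.mul_sum, Finset.sum_add_distrib, Finset.sum_const,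
      Finset.card_univ, Nat.card_eq_fintype_card, nsmul_eq_mul, mul_one, Nat.cast_one]
  rw [hsum]
  refine h2.trans (Nat.ModEq.add_left _ ?_)
  have := Nat.ModEq.mul_left' p hc
  rwa [mul_one, ← pow_two] at this

theorem pow_mem_commutator_of_MC {S : Type u} [Group S] [Finite S] (hS : IsPGroup 2 S) (h : MC S) :
    ∀ g : S, g ^ 2 ∈ commutator S := by
  intro g
  by_contra hg
  haveI : Fact (Nat.Prime 2) := ⟨Nat.prime_two⟩
  have hc : Nat.card (S ⧸ commutator S) = 4 := h.2
  have ho : orderOf (g : S ⧸ commutator S) = 4 := by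
    have h1 : orderOf (g : S ⧸ commutator S) ∣ 2 ^ 2 := (orderOf_dvd_natCard _).trans (dvd_of_eq hc)
    obtain ⟨j, hj, hj'⟩ := (Nat.dvd_prime_pow Nat.prime_two).mp h1
    interval_cases j
    · refine absurd ?_ hg
      rw [← QuotientGroup.eq_one_iff, QuotientGroup.mk_pow, orderOf_eq_one_iff.mp hj', one_pow]
    · refine absurd ?_ hg
      rw [← QuotientGroup.eq_one_iff, QuotientGroup.mk_pow, ← orderOf_dvd_iff_pow_eq_one, hj', pow_one]
    · exact hj'
  have htop : Subgroup.zpowers g ⊔ commutator S = ⊤ := eq_top_iff.mpr fun x _ => by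
    have h2 : Subgroup.zpowers (g : S ⧸ commutator S) = ⊤ :=
      Subgroup.eq_top_of_card_eq _ (by rw [Nat.card_zpowers, ho, hc])
    obtain ⟨i, hi⟩ := Subgroup.mem_zpowers_iff.mp (h2.ge (Subgroup.mem_top (x : S ⧸ commutator S)))
    rw [← QuotientGroup.mk_zpow] at hi
    rw [← mul_inv_cancel_left (g ^ i) x]
    exact Subgroup.mul_mem_sup (Subgroup.zpow_mem _ (Subgroup.mem_zpowers g) i) (QuotientGroup.eq.mp hi)
  have hfr : Subgroup.zpowers g ⊔ frattini S = ⊤ :=
    eq_top_iff.mpr (htop.ge.trans (sup_le_sup le_rfl (CfsgLib.commutator_le_frattini_pGroup hS)))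
  haveI : IsCyclic S := ⟨⟨g, fun x => (frattini_nongenerating hfr).ge (Subgroup.mem_top x)⟩⟩
  letI := IsCyclic.commGroup (α := S)
  have h3 : commutator S = ⊥ := by
    rw [eq_bot_iff, commutator_def, Subgroup.commutator_le]
    exact fun a _ b _ => Subgroup.mem_bot.mpr (commutatorElement_eq_one_iff_mul_comm.mpr (mul_comm a b))
  have := h.2
  rw [h3, Subgroup.index_bot] at this
  have := h.1
  omega

theorem not_cyclic_of_MC {S : Type u} [Group S] [Finite S] (h : MC S) : ¬ IsCyclic S := fun hc => by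
  haveI := hc
  letI := IsCyclic.commGroup (α := S)
  have h3 : commutator S = ⊥ := by
    rw [eq_bot_iff, commutator_def, Subgroup.commutator_le]
    exact fun a _ b _ => Subgroup.mem_bot.mpr (commutatorElement_eq_one_iff_mul_comm.mpr (mul_comm a b))
  have := h.2
  rw [h3, Subgroup.index_bot] at this
  have := h.1
  omega

theorem frattini_le_of_index {M : Subgroup G} (hM : M.index = p) : frattini G ≤ M :=
  frattini_le_coatom ⟨fun h => hp.out.one_lt.ne (by rw [← hM, h, Subgroup.index_top]), fun K hK => by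
    rcases (Nat.dvd_prime hp.out).mp (hM ▸ Subgroup.index_dvd_of_le hK.le) with h | h
    · exact Subgroup.index_eq_one.mp h
    · exact absurd (Subgroup.eq_of_le_of_card_ge hK.le (by
        have := K.card_mul_index
        rw [h, ← M.card_mul_index, hM] at this
        exact (Nat.eq_of_mul_eq_mul_right hp.out.pos this).le)) hK.ne⟩

theorem card_of_index {m : ℕ} (hm : Nat.card G = p ^ m) {M : Subgroup G} (hM : M.index = p) (h1 : 1 ≤ m) :
    Nat.card M = p ^ (m - 1) := by
  have h := M.card_mul_index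
  rw [hM, hm, show p ^ m = p ^ (m - 1) * p by rw [← pow_succ, Nat.sub_add_cancel h1]] at h
  exact Nat.eq_of_mul_eq_mul_right hp.out.pos h

/-- A group with Frattini quotient of order `p ^ 2` has `p + 1` maximal subgroups. -/
theorem ncard_max (hG : IsPGroup p G) (hΦ : (frattini G).index = p ^ 2) :
    {M : Subgroup G | M.index = p}.ncard = p + 1 := by
  obtain ⟨hn, hcom, hpow⟩ := sup_frattini_facts hG (⊥ : Subgroup G)
  simp only [bot_sup_eq] at hn hcom hpow
  haveI := hn
  have h := hyperplanes (p := p) (frattini G) hcom hpow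
  rw [show Nat.card (G ⧸ frattini G) = p ^ 2 from hΦ,
    Nat.card_congr (Equiv.subtypeEquivRight (q := fun M : Subgroup G => M.index = p)
      fun M => ⟨fun h => h.1, fun h => ⟨h, frattini_le_of_index h⟩⟩)] at h
  rw [← Nat.card_coe_set_eq]
  obtain ⟨q, rfl⟩ : ∃ q, p = q + 1 := ⟨p - 1, (Nat.sub_add_cancel hp.out.pos).symm⟩
  have hq : 0 < q := by have := hp.out.two_le; omega
  refine Nat.eq_of_mul_eq_mul_left hq ?_
  rw [Nat.add_sub_cancel] at h
  change q * Nat.card {M : Subgroup G // M.index = q + 1} = _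
  nlinarith

/-- An element of a cyclic `p`-group outside the maximal subgroup is a generator. -/
theorem zpowers_eq_of_not_mem (hG : IsPGroup p G) {h x : G} (hx : x ∈ Subgroup.zpowers h)
    (hxp : x ∉ Subgroup.zpowers (h ^ p)) : Subgroup.zpowers x = Subgroup.zpowers h := by
  obtain ⟨i, rfl⟩ := Subgroup.mem_zpowers_iff.mp hx
  obtain ⟨e, he⟩ := IsPGroup.iff_orderOf.1 hG h
  have hi : ¬ (p : ℤ) ∣ i := by
    rintro ⟨j, rfl⟩
    exact hxp (Subgroup.mem_zpowers_iff.mpr ⟨j, by rw [← zpow_natCast, ← zpow_mul]⟩)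
  have hc : IsCoprime i ((orderOf h : ℕ) : ℤ) := by
    rw [he, Nat.cast_pow]
    exact (((Nat.prime_iff_prime_int.mp hp.out).coprime_iff_not_dvd).mpr hi).symm.pow_right
  obtain ⟨u, v, huv⟩ := hc
  refine le_antisymm (Subgroup.zpowers_le.mpr hx) (Subgroup.zpowers_le.mpr (Subgroup.mem_zpowers_iff.mpr ⟨u, ?_⟩))
  rw [← zpow_mul, show i * u = 1 - v * ((orderOf h : ℕ) : ℤ) by rw [← huv]; ring, zpow_sub, zpow_one, zpow_mul',
    zpow_natCast, pow_orderOf_eq_one, one_zpow, inv_one, mul_one]

theorem orderOf_pow_p {h : G} {e : ℕ} (he : orderOf h = p ^ (e + 1)) : orderOf (h ^ p) = p ^ e := by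
  rw [orderOf_pow' _ hp.out.ne_zero, he, Nat.gcd_eq_right (dvd_pow_self p (Nat.succ_ne_zero e)), pow_succ,
    Nat.mul_div_cancel _ hp.out.pos]

theorem commutator_index_ne (hG : IsPGroup p G) (hnc : ¬ IsCyclic G) :
    (commutator G).index ≠ p ∧ (commutator G).index ≠ 1 := by
  have h1 : (frattini G).index ∣ (commutator G).index :=
    Subgroup.index_dvd_of_le (CfsgLib.commutator_le_frattini_pGroup hG)
  obtain ⟨h2, h3⟩ := index_frattini hG hnc
  exact ⟨fun h => ((Nat.dvd_prime hp.out).mp (h ▸ h1)).elim h3 h2, fun h => h3 (Nat.dvd_one.mp (h ▸ h1))⟩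

theorem commutator_eq_bot_of_cyclic {S : Type u} [Group S] [IsCyclic S] : commutator S = ⊥ := by
  rw [eq_bot_iff, commutator_def, Subgroup.commutator_le]
  exact fun a _ b _ => Subgroup.mem_bot.mpr (commutatorElement_eq_one_iff_mul_comm.mpr
    (by letI := IsCyclic.commGroup (α := S); exact mul_comm a b))

/-- Outside the groups of maximal class there are `0` or `p` cyclic maximal subgroups. -/
theorem ncard_cyclic_max (hG : IsPGroup p G) (hnc : ¬ IsCyclic G) {m : ℕ} (hm : Nat.card G = p ^ m) (h3 : 3 ≤ m)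
    (hmc : ¬ (p = 2 ∧ MC G)) :
    {M : Subgroup G | M.index = p ∧ IsCyclic M}.ncard ≡ 0 [MOD p] := by
  classical
  rcases Set.eq_empty_or_nonempty {M : Subgroup G | M.index = p ∧ IsCyclic M} with h0 | ⟨A, hAi, hAc⟩
  · rw [h0, Set.ncard_empty]
  obtain ⟨a, ha⟩ := (Subgroup.isCyclic_iff_exists_zpowers_eq_top (H := A)).mp hAc
  obtain ⟨e, rfl⟩ : ∃ e, m = e + 3 := ⟨m - 3, by omega⟩
  have hoa : orderOf a = p ^ (e + 2) := by
    rw [← Nat.card_zpowers, ha, card_of_index hm hAi (by omega), show e + 3 - 1 = e + 2 by omega]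
  have hob : orderOf (a ^ p) = p ^ (e + 1) := orderOf_pow_p hoa
  have hΨo : orderOf ((a ^ p) ^ p) = p ^ e := orderOf_pow_p hob
  have hi2 : (Subgroup.zpowers (a ^ p)).index = p ^ 2 := by
    have h := (Subgroup.zpowers (a ^ p)).card_mul_index
    rw [Nat.card_zpowers, hob, hm, show p ^ (e + 3) = p ^ (e + 1) * p ^ 2 by rw [← pow_add]] at h
    exact Nat.eq_of_mul_eq_mul_left (pow_pos hp.out.pos _) h
  have hapΦ : Subgroup.zpowers (a ^ p) ≤ frattini G :=
    Subgroup.zpowers_le.mpr (CfsgLib.pow_mem_frattini_pGroup hG a)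
  have hΦi : (frattini G).index = p ^ 2 := by
    obtain ⟨j, hj, hj'⟩ := (Nat.dvd_prime_pow hp.out).mp (hi2 ▸ Subgroup.index_dvd_of_le hapΦ)
    obtain ⟨h2, h3⟩ := index_frattini hG hnc
    interval_cases j
    · exact absurd (by rw [hj', pow_zero]) h3
    · exact absurd (by rw [hj', pow_one]) h2
    · exact hj'
  have hΦ : frattini G = Subgroup.zpowers (a ^ p) := (Subgroup.eq_of_le_of_card_ge hapΦ (by
    have h := (frattini G).card_mul_index
    rw [hΦi, ← (Subgroup.zpowers (a ^ p)).card_mul_index, hi2] at h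
    exact (Nat.eq_of_mul_eq_mul_right (pow_pos hp.out.pos 2) h).le)).symm
  set Ψ := Subgroup.zpowers ((a ^ p) ^ p) with hΨ
  haveI hΨn : Ψ.Normal := ⟨fun x hx g => by
    obtain ⟨i, rfl⟩ := Subgroup.mem_zpowers_iff.mp hx
    obtain ⟨hn, -, -⟩ := sup_frattini_facts hG (⊥ : Subgroup G)
    rw [bot_sup_eq, hΦ] at hn
    obtain ⟨j, hj⟩ := Subgroup.mem_zpowers_iff.mp (hn.conj_mem _ (Subgroup.mem_zpowers (a ^ p)) g)
    refine Subgroup.mem_zpowers_iff.mpr ⟨j * i, ?_⟩
    rw [← conj_zpow, ← conj_pow, ← hj]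
    simp only [← zpow_natCast, ← zpow_mul]
    congr 1
    ring⟩
  have hmul : ∀ g h : G, ((g * h) ^ p : G ⧸ Ψ) = (g ^ p : G ⧸ Ψ) * (h ^ p : G ⧸ Ψ) := by
    intro g h
    rcases eq_or_ne p 2 with h2 | h2
    · have hle : commutator G ≤ Ψ := by
        by_contra hcon
        obtain ⟨x, hx, hxn⟩ := SetLike.not_le_iff_exists.mp hcon
        have hxΦ : x ∈ Subgroup.zpowers (a ^ p) := hΦ ▸ CfsgLib.commutator_le_frattini_pGroup hG hx
        have h1 := zpowers_eq_of_not_mem hG hxΦ hxn
        have h4 : commutator G = frattini G := le_antisymm (CfsgLib.commutator_le_frattini_pGroup hG)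
          (by rw [hΦ, ← h1]; exact Subgroup.zpowers_le.mpr hx)
        refine hmc ⟨h2, ?_, by rw [h4, hΦi, h2]; norm_num⟩
        rw [hm, h2]
        exact le_trans (by norm_num : 8 ≤ 2 ^ 3) (Nat.pow_le_pow_right (by norm_num) (by omega))
      have hc : Commute (g : G ⧸ Ψ) (h : G ⧸ Ψ) := by
        refine commutatorElement_eq_one_iff_mul_comm.mp ?_
        rw [← QuotientGroup.mk'_apply, ← QuotientGroup.mk'_apply, ← map_commutatorElement, QuotientGroup.mk'_apply,
          QuotientGroup.eq_one_iff]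
        exact hle (Subgroup.commutator_mem_commutator (Subgroup.mem_top g) (Subgroup.mem_top h))
      exact hc.mul_pow p
    · obtain ⟨hc, he⟩ := CfsgLib.CyclicMax.commutator_central hG h2 hAc hAi
      rw [← QuotientGroup.mk_mul, ← QuotientGroup.mk_pow,
        CfsgLib.CyclicMax.mul_pow_of_central_commutators h2 hc he, QuotientGroup.mk_mul, QuotientGroup.mk_pow,
        QuotientGroup.mk_pow]
  let φ : G →* G ⧸ Ψ := MonoidHom.mk' (fun g => (g : G ⧸ Ψ) ^ p) hmul
  have hφ : ∀ g : G, φ g = ((g ^ p : G) : G ⧸ Ψ) := fun g => (QuotientGroup.mk_pow Ψ g p).symm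
  have hapn : a ^ p ∉ Ψ := fun h => by
    have h1 := Subgroup.card_le_of_le (Subgroup.zpowers_le.mpr h)
    rw [hΨ, Nat.card_zpowers, Nat.card_zpowers, hob, hΨo] at h1
    exact absurd h1 (not_le.mpr (Nat.pow_lt_pow_right hp.out.one_lt (Nat.lt_succ_self e)))
  have hK : φ.ker.index = p := by
    rw [Subgroup.index_ker]
    have hr : φ.range = Subgroup.zpowers (φ a) := by
      refine le_antisymm ?_ (Subgroup.zpowers_le.mpr ⟨a, rfl⟩)
      rintro _ ⟨g, rfl⟩
      have hg : g ^ p ∈ Subgroup.zpowers (a ^ p) := hΦ ▸ CfsgLib.pow_mem_frattini_pGroup hG g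
      obtain ⟨i, hi⟩ := Subgroup.mem_zpowers_iff.mp hg
      exact Subgroup.mem_zpowers_iff.mpr ⟨i, by rw [hφ, hφ, ← QuotientGroup.mk_zpow, hi]⟩
    rw [hr, Nat.card_zpowers]
    refine orderOf_eq_prime ?_ ?_
    · rw [hφ, ← QuotientGroup.mk_pow, QuotientGroup.eq_one_iff]
      exact Subgroup.mem_zpowers _
    · rw [hφ, ne_eq, QuotientGroup.eq_one_iff]
      exact hapn
  have hkey : ∀ N : Subgroup G, N.index = p → (IsCyclic N ↔ ¬ N ≤ φ.ker) := by
    intro N hN
    have hcN : Nat.card N = p ^ (e + 2) := by rw [card_of_index hm hN (by omega)]; congr 1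
    constructor
    · intro hc hle
      obtain ⟨n, hn⟩ := (Subgroup.isCyclic_iff_exists_zpowers_eq_top (H := N)).mp hc
      have h1 := hle (hn ▸ Subgroup.mem_zpowers n)
      rw [MonoidHom.mem_ker, hφ, QuotientGroup.eq_one_iff] at h1
      have h2 := Subgroup.card_le_of_le (Subgroup.zpowers_le.mpr h1)
      rw [hΨ, Nat.card_zpowers, Nat.card_zpowers, hΨo,
        orderOf_pow_p (e := e + 1) (by rw [← Nat.card_zpowers, hn, hcN])] at h2
      exact absurd h2 (not_le.mpr (Nat.pow_lt_pow_right hp.out.one_lt (Nat.lt_succ_self e)))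
    · intro hle
      obtain ⟨n, hnN, hn⟩ := SetLike.not_le_iff_exists.mp hle
      rw [MonoidHom.mem_ker, hφ, QuotientGroup.eq_one_iff] at hn
      have hnp : n ^ p ∈ Subgroup.zpowers (a ^ p) := hΦ ▸ CfsgLib.pow_mem_frattini_pGroup hG n
      have h1 := zpowers_eq_of_not_mem hG hnp hn
      obtain ⟨j, hj⟩ := IsPGroup.iff_orderOf.1 hG n
      obtain ⟨i, rfl⟩ : ∃ i, j = i + 1 := Nat.exists_eq_succ_of_ne_zero (fun h => hn (by
        rw [h, pow_zero, orderOf_eq_one_iff] at hj
        rw [hj, one_pow]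
        exact one_mem Ψ))
      have h2 := congrArg (fun H : Subgroup G => Nat.card H) h1
      simp only [Nat.card_zpowers, orderOf_pow_p hj, hob] at h2
      have hi := Nat.pow_right_injective hp.out.two_le h2
      subst hi
      refine (Subgroup.isCyclic_iff_exists_zpowers_eq_top (H := N)).mpr ⟨n,
        Subgroup.eq_of_le_of_card_ge (Subgroup.zpowers_le.mpr hnN) ?_⟩
      rw [Nat.card_zpowers, hj, hcN]
  have heq : {M : Subgroup G | M.index = p ∧ IsCyclic M} = {M : Subgroup G | M.index = p} \ {φ.ker} := by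
    ext N
    simp only [Set.mem_ofPred_eq, Set.mem_diff, Set.mem_singleton_iff]
    refine ⟨fun h => ⟨h.1, fun h' => (hkey N h.1).mp h.2 h'.le⟩, fun h => ⟨h.1, (hkey N h.1).mpr fun hle => h.2 ?_⟩⟩
    refine Subgroup.eq_of_le_of_card_ge hle ?_
    rw [card_of_index hm hK (by omega), card_of_index hm h.1 (by omega)]
  rw [heq, Set.ncard_diff_singleton_of_mem (show φ.ker ∈ _ from hK), ncard_max hG hΦi, Nat.add_sub_cancel]
  exact Nat.modEq_zero_iff_dvd.mpr dvd_rfl

theorem mc_iff {M : Subgroup G} :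
    MC M ↔ 8 ≤ Nat.card M ∧ Nat.card (⁅M, M⁆ : Subgroup G) * 4 = Nat.card M := by
  have h : Nat.card (⁅M, M⁆ : Subgroup G) * (commutator M).index = Nat.card M := by
    rw [← Subgroup.map_subtype_commutator, Subgroup.card_map_of_injective M.subtype_injective,
      Subgroup.card_mul_index]
  refine ⟨fun hM => ⟨hM.1, by rw [← hM.2]; exact h⟩, fun hM => ⟨hM.1, ?_⟩⟩
  exact Nat.eq_of_mul_eq_mul_left Nat.card_pos (h.trans hM.2.symm)

/-- The groups of order `16` with derived subgroup of order `2`. -/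
theorem center_sup {Q : Type u} [Group Q] [Finite Q] (hQ : Nat.card Q = 16) (hd : Nat.card (commutator Q) = 2)
    {x y : Q} (hxy : x * y ≠ y * x) : Subgroup.center Q ⊔ Subgroup.closure {x, y} = ⊤ := by
  classical
  have hmem : ∀ u v : Q, ⁅u, v⁆ ∈ commutator Q := fun u v =>
    Subgroup.commutator_mem_commutator (Subgroup.mem_top u) (Subgroup.mem_top v)
  set z := ⁅x, y⁆ with hz
  have hz1 : z ≠ 1 := fun h => hxy (commutatorElement_eq_one_iff_mul_comm.mp h)
  have hD : ∀ w ∈ commutator Q, w = 1 ∨ w = z := by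
    intro w hw
    by_contra h
    rw [not_or] at h
    have h2 : ({1, z, w} : Set Q) ⊆ (commutator Q : Set Q) := by
      simp [Set.insert_subset_iff, one_mem, hmem, hz, hw]
    have h3 := Set.ncard_le_ncard h2 (Set.toFinite _)
    rw [← Nat.card_coe_set_eq (commutator Q : Set Q)] at h3
    change _ ≤ Nat.card (commutator Q) at h3
    rw [hd, Set.ncard_insert_of_notMem (by simp [Ne.symm hz1, Ne.symm h.1]) (Set.toFinite _),
      Set.ncard_pair (Ne.symm h.2)] at h3
    omega
  have hcen : ∀ g : Q, g * z * g⁻¹ = z := fun g =>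
    (hD _ ((inferInstance : (commutator Q).Normal).conj_mem z (hmem x y) g)).resolve_left fun h =>
      hz1 (by simpa using h)
  have hzz : z * z = 1 := (hD _ (mul_mem (hmem x y) (hmem x y))).resolve_right fun h => hz1 (mul_left_cancel (h.trans (mul_one z).symm))
  have hbil : ∀ u g h : Q, ⁅u, g * h⁆ = ⁅u, g⁆ * ⁅u, h⁆ := fun u g h => by
    rw [show ⁅u, g * h⁆ = ⁅u, g⁆ * (g * ⁅u, h⁆ * g⁻¹) by simp only [commutatorElement_def]; group]
    congr 1
    rcases hD _ (hmem u h) with h' | h' <;> rw [h'] <;> simp [hcen]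
  have hyx : ⁅y, x⁆ = z := by rw [← commutatorElement_inv, ← hz]; exact inv_eq_of_mul_eq_one_right hzz
  let K : Subgroup Q := Subgroup.centralizer {x} ⊓ Subgroup.centralizer {y}
  have hK : ∀ g, g ∈ K ↔ ⁅x, g⁆ = 1 ∧ ⁅y, g⁆ = 1 := fun g => by
    simp only [K, Subgroup.mem_inf, Subgroup.mem_centralizer_singleton_iff, commutatorElement_eq_one_iff_mul_comm,
      eq_comm]
  have hdec : ∀ g, ∃ k ∈ K, ∃ w ∈ Subgroup.closure ({x, y} : Set Q), g = k * w := by
    intro g
    let s : Q := if ⁅y, g⁆ = 1 then 1 else x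
    let t : Q := if ⁅x, g⁆ = 1 then 1 else y
    have hs : ⁅x, s⁆ = 1 ∧ ⁅y, g⁆ * ⁅y, s⁆ = 1 := by
      simp only [s]
      split
      · rename_i h; simp [h]
      · rename_i h
        rw [(hD _ (hmem y g)).resolve_left h, hyx, commutatorElement_self]
        exact ⟨rfl, hzz⟩
    have ht : ⁅y, t⁆ = 1 ∧ ⁅x, g⁆ * ⁅x, t⁆ = 1 := by
      simp only [t]
      split
      · rename_i h; simp [h]
      · rename_i h
        rw [(hD _ (hmem x g)).resolve_left h, ← hz, commutatorElement_self]
        exact ⟨rfl, hzz⟩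
    refine ⟨g * s * t, (hK _).mpr ⟨?_, ?_⟩, (s * t)⁻¹, inv_mem (mul_mem ?_ ?_), by group⟩
    · rw [hbil, hbil, hs.1, mul_one, ht.2]
    · rw [hbil, hbil, ht.1, mul_one, hs.2]
    · simp only [s]; split
      · exact one_mem _
      · exact Subgroup.subset_closure (by simp)
    · simp only [t]; split
      · exact one_mem _
      · exact Subgroup.subset_closure (by simp)
  have hxC : x ∈ Subgroup.centralizer ({x} : Set Q) := Subgroup.mem_centralizer_singleton_iff.mpr rfl
  have hxK : x ∉ K := fun h => hxy (Subgroup.mem_centralizer_singleton_iff.mp h.2)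
  have hyC : y ∉ Subgroup.centralizer ({x} : Set Q) := fun h => hxy (Subgroup.mem_centralizer_singleton_iff.mp h).symm
  haveI : Fact (Nat.Prime 2) := ⟨Nat.prime_two⟩
  have h4 : Nat.card K ≤ 4 := by
    have hK8 : Nat.card (Subgroup.centralizer ({x} : Set Q)) ≤ 8 := by
      obtain ⟨j, hj, hj'⟩ := (Nat.dvd_prime_pow Nat.prime_two).mp
        ((Subgroup.card_subgroup_dvd_card (Subgroup.centralizer ({x} : Set Q))).trans (dvd_of_eq (hQ.trans (by norm_num : 16 = 2 ^ 4))))
      interval_cases j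
      all_goals first
        | (rw [hj']; norm_num; done)
        | exact absurd ((Subgroup.eq_top_of_card_eq (Subgroup.centralizer ({x} : Set Q)) (by rw [hj', hQ]; norm_num)).symm ▸ Subgroup.mem_top y) hyC
    have hlt : Nat.card K < Nat.card (Subgroup.centralizer ({x} : Set Q)) :=
      lt_of_le_of_ne (Subgroup.card_le_of_le inf_le_left) fun h =>
        hxK ((Subgroup.eq_of_le_of_card_ge (show K ≤ Subgroup.centralizer {x} from inf_le_left) h.ge).symm ▸ hxC)
    obtain ⟨c, hc⟩ := Subgroup.card_dvd_of_le (show K ≤ Subgroup.centralizer {x} from inf_le_left)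
    have : 2 ≤ c := by
      by_contra h
      interval_cases c <;> simp at hc <;> omega
    nlinarith
  have hKc : ∀ k ∈ K, ∀ k' ∈ K, Commute k k' := by
    obtain ⟨j, hj, hj'⟩ := (Nat.dvd_prime_pow Nat.prime_two).mp
      ((Subgroup.card_subgroup_dvd_card K).trans (dvd_of_eq (hQ.trans (by norm_num : 16 = 2 ^ 4))))
    have hj2 : j ≤ 2 := (Nat.pow_le_pow_iff_right (by norm_num : 1 < 2)).mp (by rw [← hj']; exact h4)
    have hcomm : ∀ u v : K, u * v = v * u := by
      interval_cases j
      · haveI : Subsingleton K := (Nat.card_eq_one_iff_unique.mp hj').1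
        exact fun u v => Subsingleton.elim _ _
      · haveI := isCyclic_of_prime_card (α := K) (p := 2) hj'
        letI := IsCyclic.commGroup (α := K)
        exact fun u v => mul_comm u v
      · exact IsPGroup.commutative_of_card_eq_prime_sq (p := 2) hj'
    exact fun k hk k' hk' => congrArg Subtype.val (hcomm ⟨k, hk⟩ ⟨k', hk'⟩)
  have hKZ : K ≤ Subgroup.center Q := fun k hk => Subgroup.mem_center_iff.mpr fun g => by
    obtain ⟨k', hk', w, hw, rfl⟩ := hdec g
    have h1 : Subgroup.closure ({x, y} : Set Q) ≤ Subgroup.centralizer {k} := by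
      rw [Subgroup.closure_le]
      rintro u (rfl | rfl) <;> simp only [SetLike.mem_coe, Subgroup.mem_centralizer_singleton_iff]
      · exact (Subgroup.mem_centralizer_singleton_iff.mp hk.1).symm
      · exact (Subgroup.mem_centralizer_singleton_iff.mp hk.2).symm
    have h2 : Commute k w := (Subgroup.mem_centralizer_singleton_iff.mp (h1 hw)).symm
    exact ((hKc k hk k' hk').mul_right h2).eq.symm
  rw [eq_top_iff]
  rintro g -
  obtain ⟨k, hk, w, hw, rfl⟩ := hdec g
  exact Subgroup.mul_mem_sup (hKZ hk) hw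

/-- Outside the groups of maximal class there is an even number of maximal subgroups of maximal class. -/
theorem ncard_MC_max {S : Type u} [Group S] [Finite S] (hS : IsPGroup 2 S) (hnc : ¬ IsCyclic S) (hmc : ¬ MC S) :
    {M : Subgroup S | M.index = 2 ∧ MC M}.ncard ≡ 0 [MOD 2] := by
  classical
  haveI : Fact (Nat.Prime 2) := ⟨Nat.prime_two⟩
  rcases Set.eq_empty_or_nonempty {M : Subgroup S | M.index = 2 ∧ MC M} with h0 | ⟨M, hMi, hM⟩
  · rw [h0, Set.ncard_empty]
  obtain ⟨m, hm⟩ := IsPGroup.iff_card.mp hS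
  have hm1 : 1 ≤ m := by
    by_contra h
    have := M.index_dvd_card
    rw [hMi, hm, show m = 0 by omega] at this
    norm_num at this
  have hcM := card_of_index hm hMi hm1
  have hm4 : 4 ≤ m := by
    have h := hM.1
    rw [hcM, show 8 = 2 ^ 3 by norm_num, Nat.pow_le_pow_iff_right (by norm_num)] at h
    omega
  obtain ⟨e, rfl⟩ : ∃ e, m = e + 4 := ⟨m - 4, by omega⟩
  rw [show e + 4 - 1 = e + 3 by omega] at hcM
  have hsq := pow_mem_commutator_of_MC (hS.to_subgroup M) hM
  obtain ⟨a, -, -, hoa, -⟩ := CfsgLib.MaximalClass.shape (S := M) (n := e + 3) (by omega) hcM hM.2 hsq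
  rw [show e + 3 - 1 = e + 1 + 1 by omega] at hoa
  set c : S := (a : S) ^ 2 with hc
  have hoc : orderOf c = 2 ^ (e + 1) := orderOf_pow_p (by rw [Subgroup.orderOf_coe, hoa])
  have hCM : Subgroup.zpowers c = (⁅M, M⁆ : Subgroup S) := by
    refine Subgroup.eq_of_le_of_card_ge (Subgroup.zpowers_le.mpr ?_) ?_
    · rw [← Subgroup.map_subtype_commutator]
      exact ⟨a ^ 2, hsq a, by simp [hc]⟩
    · have h := (mc_iff.mp hM).2
      rw [hcM, show 2 ^ (e + 3) = 2 ^ (e + 1) * 4 by rw [pow_add, pow_add _ e]; ring] at h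
      rw [Nat.card_zpowers, hoc, Nat.eq_of_mul_eq_mul_right (by norm_num) h]
  have hG' : commutator S = Subgroup.zpowers c := by
    have hle : Subgroup.zpowers c ≤ commutator S := hCM ▸ Subgroup.commutator_mono le_top le_top
    have hi : (Subgroup.zpowers c).index = 2 ^ 3 := by
      have h := (Subgroup.zpowers c).card_mul_index
      rw [Nat.card_zpowers, hoc, hm, show 2 ^ (e + 4) = 2 ^ (e + 1) * 2 ^ 3 by rw [← pow_add]] at h
      exact Nat.eq_of_mul_eq_mul_left (pow_pos two_pos _) h
    obtain ⟨j, hj, hj'⟩ := (Nat.dvd_prime_pow Nat.prime_two).mp (hi ▸ Subgroup.index_dvd_of_le hle)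
    obtain ⟨h2, h1⟩ := commutator_index_ne hS hnc
    have hj3 : j = 3 := by
      interval_cases j
      · exact absurd (by rw [hj', pow_zero]) h1
      · exact absurd (by rw [hj', pow_one]) h2
      · refine absurd ⟨?_, by rw [hj']; norm_num⟩ hmc
        rw [hm]
        exact le_trans (by norm_num : 8 ≤ 2 ^ 3) (Nat.pow_le_pow_right (by norm_num) (by omega))
      · rfl
    refine (Subgroup.eq_of_le_of_card_ge hle ?_).symm
    have h := (commutator S).card_mul_index
    rw [hj', hj3, ← (Subgroup.zpowers c).card_mul_index, hi] at h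
    exact (Nat.eq_of_mul_eq_mul_right (pow_pos two_pos 3) h).le
  set C2 := Subgroup.zpowers (c ^ 2) with hC2
  haveI hC2n : C2.Normal := ⟨fun x hx g => by
    obtain ⟨i, rfl⟩ := Subgroup.mem_zpowers_iff.mp hx
    have h1 : g * c * g⁻¹ ∈ Subgroup.zpowers c :=
      hG' ▸ (inferInstance : (commutator S).Normal).conj_mem c (hG' ▸ Subgroup.mem_zpowers c) g
    obtain ⟨j, hj⟩ := Subgroup.mem_zpowers_iff.mp h1
    refine Subgroup.mem_zpowers_iff.mpr ⟨j * i, ?_⟩
    rw [← conj_zpow, ← conj_pow, ← hj]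
    simp only [← zpow_natCast, ← zpow_mul]
    congr 1
    ring⟩
  have hoc2 : orderOf (c ^ 2) = 2 ^ e := orderOf_pow_p hoc
  have hcn : c ∉ C2 := fun h => by
    have h1 := Subgroup.card_le_of_le (Subgroup.zpowers_le.mpr h)
    rw [hC2, Nat.card_zpowers, Nat.card_zpowers, hoc, hoc2] at h1
    exact absurd h1 (not_le.mpr (Nat.pow_lt_pow_right one_lt_two (Nat.lt_succ_self e)))
  have hQ : Nat.card (S ⧸ C2) = 16 := by
    have h := Subgroup.card_eq_card_quotient_mul_card_subgroup C2
    rw [hm, hC2, Nat.card_zpowers, hoc2, show 2 ^ (e + 4) = 16 * 2 ^ e by rw [pow_add]; ring] at h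
    exact (Nat.eq_of_mul_eq_mul_right (pow_pos two_pos _) h).symm
  have hQd : Nat.card (commutator (S ⧸ C2)) = 2 := by
    have h := Subgroup.map_commutator (⊤ : Subgroup S) ⊤ (QuotientGroup.mk' C2)
    rw [Subgroup.map_top_of_surjective _ (QuotientGroup.mk'_surjective C2), ← commutator_def, ← commutator_def, hG',
      MonoidHom.map_zpowers] at h
    rw [← h, Nat.card_zpowers]
    refine orderOf_eq_prime ?_ ?_
    · rw [← map_pow, QuotientGroup.mk'_apply, QuotientGroup.eq_one_iff]
      exact Subgroup.mem_zpowers _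
    · rw [QuotientGroup.mk'_apply, ne_eq, QuotientGroup.eq_one_iff]
      exact hcn
  set π := QuotientGroup.mk' C2 with hπ
  have hcomm : ∀ N : Subgroup S, (⁅N, N⁆ ≤ C2 ↔ ∀ x ∈ N, ∀ y ∈ N, π x * π y = π y * π x) := fun N => by
    rw [Subgroup.commutator_le]
    refine forall_congr' fun x => forall_congr' fun _ => forall_congr' fun y => forall_congr' fun _ => ?_
    rw [← commutatorElement_eq_one_iff_mul_comm, ← map_commutatorElement, hπ, QuotientGroup.mk'_apply,
      QuotientGroup.eq_one_iff]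
  set Z := (Subgroup.center (S ⧸ C2)).comap π with hZ
  have hker : C2 = π.ker := (QuotientGroup.ker_mk' C2).symm
  have hC2le : ∀ N : Subgroup S, N.index = 2 → C2 ≤ N := fun N hN =>
    (Subgroup.zpowers_le.mpr (CfsgLib.pow_mem_frattini_pGroup hS c)).trans (frattini_le_of_index hN)
  have htop : ¬ ∀ x y : S ⧸ C2, x * y = y * x := fun h => by
    have h1 : commutator (S ⧸ C2) = ⊥ := by
      rw [eq_bot_iff, commutator_def, Subgroup.commutator_le]
      exact fun x _ y _ => Subgroup.mem_bot.mpr (commutatorElement_eq_one_iff_mul_comm.mpr (h x y))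
    rw [h1, Subgroup.card_bot] at hQd
    omega
  have hiff : ∀ N : Subgroup S, N.index = 2 → (⁅N, N⁆ ≤ C2 ↔ Z ≤ N) := by
    intro N hN
    rw [hcomm]
    constructor
    · intro hab
      by_contra hZN
      have hsup : N ⊔ Z = ⊤ := by
        rcases (Nat.dvd_prime Nat.prime_two).mp (hN ▸ Subgroup.index_dvd_of_le (le_sup_left : N ≤ N ⊔ Z)) with h | h
        · exact Subgroup.index_eq_one.mp h
        · refine absurd ?_ hZN
          have h1 := (N ⊔ Z).card_mul_index
          rw [h, ← N.card_mul_index, hN] at h1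
          exact le_sup_right.trans (Subgroup.eq_of_le_of_card_ge le_sup_left (Nat.eq_of_mul_eq_mul_right two_pos h1).le).ge
      refine htop fun u v => ?_
      obtain ⟨x, rfl⟩ := QuotientGroup.mk'_surjective C2 u
      obtain ⟨y, rfl⟩ := QuotientGroup.mk'_surjective C2 v
      have hle : Subgroup.map π (N ⊔ Z) ≤ Subgroup.centralizer (π '' N) := by
        rw [Subgroup.map_sup, sup_le_iff]
        refine ⟨?_, fun w hw => ?_⟩
        · rintro _ ⟨n, hn, rfl⟩ _ ⟨n', hn', rfl⟩
          exact hab n' hn' n hn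
        · obtain ⟨n, hn, rfl⟩ := hw
          rintro _ ⟨n', -, rfl⟩
          exact Subgroup.mem_center_iff.mp hn _
      have hN' : Subgroup.map π N ≤ Subgroup.center (S ⧸ C2) := by
        rintro _ ⟨n, hn, rfl⟩
        rw [Subgroup.mem_center_iff]
        intro w
        obtain ⟨w, rfl⟩ := QuotientGroup.mk'_surjective C2 w
        exact (hle ⟨w, hsup ▸ Subgroup.mem_top w, rfl⟩ _ ⟨n, hn, rfl⟩).symm
      have hall : Subgroup.map π (N ⊔ Z) ≤ Subgroup.center (S ⧸ C2) := by
        rw [Subgroup.map_sup, sup_le_iff]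
        exact ⟨hN', Subgroup.map_comap_le _ _⟩
      exact (Subgroup.mem_center_iff.mp (hall ⟨x, hsup ▸ Subgroup.mem_top x, rfl⟩) _).symm
    · intro hZN x hx y hy
      by_contra hne
      have h1 := center_sup hQ hQd hne
      have h2 : (⊤ : Subgroup (S ⧸ C2)) ≤ N.map π := by
        rw [← h1, sup_le_iff, Subgroup.closure_le]
        refine ⟨fun w hw => ?_, ?_⟩
        · obtain ⟨w, rfl⟩ := QuotientGroup.mk'_surjective C2 w
          exact ⟨w, hZN hw, rfl⟩
        · rintro _ (rfl | rfl)
          · exact ⟨x, hx, rfl⟩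
          · exact ⟨y, hy, rfl⟩
      have h3 : N = ⊤ := by
        rw [← Subgroup.comap_map_eq_self (f := π) (H := N) (hker ▸ hC2le N hN), top_le_iff.mp h2, Subgroup.comap_top]
      rw [h3, Subgroup.index_top] at hN
      omega
  have hMC : ∀ N : Subgroup S, N.index = 2 → (MC N ↔ ¬ ⁅N, N⁆ ≤ C2) := by
    intro N hN
    have hcN : Nat.card N = 2 ^ (e + 3) := by rw [card_of_index hm hN (by omega)]; rfl
    have h8 : 2 ^ (e + 3) = 2 ^ (e + 1) * 4 := by rw [pow_add, pow_add _ e]; ring
    rw [mc_iff, hcN]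
    constructor
    · intro h hle
      have h1 := Subgroup.card_le_of_le hle
      rw [hC2, Nat.card_zpowers, hoc2] at h1
      have h2 := h.2
      rw [h8] at h2
      rw [Nat.eq_of_mul_eq_mul_right (by norm_num) h2] at h1
      exact absurd h1 (not_le.mpr (Nat.pow_lt_pow_right one_lt_two (Nat.lt_succ_self e)))
    · intro hnle
      obtain ⟨x, hx, hxn⟩ := SetLike.not_le_iff_exists.mp hnle
      have hle : (⁅N, N⁆ : Subgroup S) ≤ Subgroup.zpowers c := hG' ▸ Subgroup.commutator_mono le_top le_top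
      have h1 : (⁅N, N⁆ : Subgroup S) = Subgroup.zpowers c :=
        le_antisymm hle (zpowers_eq_of_not_mem hS (hle hx) hxn ▸ Subgroup.zpowers_le.mpr hx)
      rw [h1, Nat.card_zpowers, hoc]
      exact ⟨le_trans (by norm_num : 8 ≤ 2 ^ 3) (Nat.pow_le_pow_right (by norm_num) (by omega)), h8.symm⟩
  have hZtop : Z ≠ ⊤ := fun h => htop fun u v => by
    obtain ⟨x, rfl⟩ := QuotientGroup.mk'_surjective C2 u
    have hx : x ∈ Z := h ▸ Subgroup.mem_top x
    exact (Subgroup.mem_center_iff.mp hx v).symm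
  have hodd : ∀ H : Subgroup S, H ≠ ⊤ → {M : Subgroup S | M.index = 2 ∧ H ≤ M}.ncard ≡ 1 [MOD 2] := by
    intro H hH
    have h := (count_over (p := 2) hS hH).of_dvd (dvd_pow_self 2 two_ne_zero)
    rw [← Nat.card_coe_set_eq]
    refine h.trans ?_
    exact Nat.add_mul_mod_self_left 1 2 _
  have heq : {M : Subgroup S | M.index = 2 ∧ MC M} =
      {M : Subgroup S | M.index = 2 ∧ ⊥ ≤ M} \ {M : Subgroup S | M.index = 2 ∧ Z ≤ M} := by
    ext N
    simp only [Set.mem_ofPred_eq, Set.mem_diff, bot_le, and_true]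
    exact ⟨fun h => ⟨h.1, fun h' => (hMC N h.1).mp h.2 ((hiff N h.1).mpr h'.2)⟩,
      fun h => ⟨h.1, (hMC N h.1).mpr fun h' => h.2 ⟨h.1, (hiff N h.1).mp h'⟩⟩⟩
  haveI : Nontrivial S := by
    rw [← Finite.one_lt_card_iff_nontrivial, hm]
    exact Nat.one_lt_pow (by omega) one_lt_two
  have h1 := hodd ⊥ bot_ne_top
  have h2 := hodd Z hZtop
  have hsub : {M : Subgroup S | M.index = 2 ∧ Z ≤ M} ⊆ {M : Subgroup S | M.index = 2 ∧ ⊥ ≤ M} :=
    fun N h => ⟨h.1, bot_le⟩
  rw [heq, Set.ncard_diff hsub]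
  have h3 := Set.ncard_le_ncard hsub (Set.toFinite _)
  unfold Nat.ModEq at h1 h2 ⊢
  omega

/-- The maximal subgroups of the groups of maximal class. -/
theorem counts_of_MC {S : Type u} [Group S] [Finite S] (hS : IsPGroup 2 S) (h : MC S) :
    {M : Subgroup S | M.index = 2 ∧ IsCyclic M}.ncard ≡ 1 [MOD 2] ∧
      {M : Subgroup S | M.index = 2 ∧ MC M}.ncard ≡ 0 [MOD 2] := by
  classical
  haveI : Fact (Nat.Prime 2) := ⟨Nat.prime_two⟩
  obtain ⟨n, hn⟩ := IsPGroup.iff_card.mp hS
  have hn3 : 3 ≤ n := by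
    have h1 := h.1
    rwa [hn, show 8 = 2 ^ 3 by norm_num, Nat.pow_le_pow_iff_right (by norm_num)] at h1
  obtain ⟨a, b, r, hoa, hb, hgen, hconj, hdvd, hfix, hb2⟩ :=
    CfsgLib.MaximalClass.shape hn3 hn h.2 (pow_mem_commutator_of_MC hS h)
  obtain ⟨e, rfl⟩ : ∃ e, n = e + 3 := ⟨n - 3, by omega⟩
  rw [show e + 3 - 1 = e + 1 + 1 by omega] at hoa hfix
  rw [show e + 3 - 2 = e + 1 by omega] at hdvd hfix hb2
  set A := Subgroup.zpowers a with hA
  have hAi : A.index = 2 := by
    have h1 := A.card_mul_index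
    rw [hA, Nat.card_zpowers, hoa, hn, show 2 ^ (e + 3) = 2 ^ (e + 1 + 1) * 2 by rw [← pow_succ]] at h1
    exact Nat.eq_of_mul_eq_mul_left (pow_pos two_pos _) h1
  have hnc := not_cyclic_of_MC h
  have hΦi : (frattini S).index = 2 ^ 2 := by
    have h1 := Subgroup.index_dvd_of_le (CfsgLib.commutator_le_frattini_pGroup (p := 2) hS)
    rw [h.2, show 4 = 2 ^ 2 by norm_num] at h1
    obtain ⟨j, hj, hj'⟩ := (Nat.dvd_prime_pow Nat.prime_two).mp h1
    obtain ⟨h2, h3⟩ := index_frattini hS hnc
    interval_cases j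
    · exact absurd (by rw [hj', pow_zero]) h3
    · exact absurd (by rw [hj', pow_one]) h2
    · exact hj'
  have hmax := ncard_max hS hΦi
  have hout : ∀ N : Subgroup S, N.index = 2 → N ≠ A → ∃ g ∈ N, g ∉ A := fun N hN hNA => by
    by_contra hcon
    push Not at hcon
    exact hNA (Subgroup.eq_of_le_of_card_ge hcon (by
      rw [card_of_index hn hN (by omega), card_of_index hn hAi (by omega)]))
  have hcj : ∀ i : ℤ, b * a ^ i * b⁻¹ = a ^ (r * i) := fun i => by rw [← conj_zpow, hconj, zpow_mul]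
  have hg : ∀ g, g ∉ A → ∃ j : ℤ, g = b * a ^ j := fun g hgA => by
    obtain ⟨j, hj⟩ := Subgroup.mem_zpowers_iff.mp ((hgen g).resolve_left hgA)
    exact ⟨j, by rw [hj, mul_inv_cancel_left]⟩
  have hAc : IsCyclic A := Subgroup.isCyclic_zpowers a
  rcases Nat.eq_zero_or_pos e with he | he
  · subst he
    have hMC0 : {M : Subgroup S | M.index = 2 ∧ MC M} = ∅ := by
      refine Set.eq_empty_of_forall_notMem fun N hN => ?_
      have h1 := hN.2.1
      rw [card_of_index hn hN.1 (by omega)] at h1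
      norm_num at h1
    refine ⟨?_, by rw [hMC0, Set.ncard_empty]⟩
    have h4 : (2 : ℤ) ^ 2 ∣ r + 1 := by
      have h2 : ¬ (2 : ℤ) ^ 2 ∣ r - 1 := fun h2 => by
        have h1 := hfix 1 (by simpa using h2)
        norm_num at h1
      norm_num at hdvd h2 ⊢
      omega
    have hord : orderOf a = 2 ^ 2 := hoa
    have hsame : ∀ g, g ∉ A → g ^ 2 = b ^ 2 := fun g hgA => by
      obtain ⟨j, rfl⟩ := hg g hgA
      have hbz : b ^ 2 * a ^ j = a ^ j * b ^ 2 := by
        obtain ⟨i, hi⟩ := Subgroup.mem_zpowers_iff.mp hb2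
        rw [← hi, ← zpow_natCast, ← zpow_mul, ← zpow_add, ← zpow_add, add_comm]
      calc (b * a ^ j) ^ 2 = (b * a ^ j * b⁻¹) * (b ^ 2 * a ^ j) := by rw [pow_two, pow_two]; group
        _ = a ^ (r * j + j) * b ^ 2 := by rw [hbz, hcj, ← mul_assoc, ← zpow_add]
        _ = b ^ 2 := by
          rw [show a ^ (r * j + j) = 1 from orderOf_dvd_iff_zpow_eq_one.mp ?_, one_mul]
          rw [hord, show r * j + j = (r + 1) * j by ring]
          exact dvd_mul_of_dvd_left (by exact_mod_cast h4) j
    rcases eq_or_ne (b ^ 2) 1 with hb1 | hb1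
    · have heq : {M : Subgroup S | M.index = 2 ∧ IsCyclic M} = {A} := by
        ext N
        simp only [Set.mem_ofPred_eq, Set.mem_singleton_iff]
        refine ⟨fun hN => ?_, fun hN => hN ▸ ⟨hAi, hAc⟩⟩
        by_contra hNA
        obtain ⟨g, hgN, hgA⟩ := hout N hN.1 hNA
        obtain ⟨w, hw⟩ := (Subgroup.isCyclic_iff_exists_zpowers_eq_top (H := N)).mp hN.2
        have hw4 : orderOf w = 4 := by
          rw [← Nat.card_zpowers, hw, card_of_index hn hN.1 (by omega)]; norm_num
        have hwA : w ∉ A := fun hwA => hgA (Subgroup.zpowers_le.mpr hwA (hw ▸ hgN))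
        have := orderOf_dvd_iff_pow_eq_one.mpr ((hsame w hwA).trans hb1)
        rw [hw4] at this
        norm_num at this
      rw [heq, Set.ncard_singleton]
    · have heq : {M : Subgroup S | M.index = 2 ∧ IsCyclic M} = {M : Subgroup S | M.index = 2} := by
        ext N
        simp only [Set.mem_ofPred_eq]
        refine ⟨fun hN => hN.1, fun hN => ⟨hN, ?_⟩⟩
        rcases eq_or_ne N A with rfl | hNA
        · exact hAc
        obtain ⟨g, hgN, hgA⟩ := hout N hN hNA
        refine (Subgroup.isCyclic_iff_exists_zpowers_eq_top (H := N)).mpr ⟨g,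
          Subgroup.eq_of_le_of_card_ge (Subgroup.zpowers_le.mpr hgN) ?_⟩
        have hN4 : Nat.card N = 4 := by rw [card_of_index hn hN (by omega)]; norm_num
        rw [Nat.card_zpowers, hN4]
        obtain ⟨j, hj, hj'⟩ := (Nat.dvd_prime_pow Nat.prime_two).mp
          ((Subgroup.orderOf_dvd_natCard N hgN).trans (dvd_of_eq (hN4.trans (by norm_num : 4 = 2 ^ 2))))
        interval_cases j
        · exact absurd (hgA ((orderOf_eq_one_iff.mp hj').symm ▸ one_mem A)) not_false
        · exact absurd ((hsame g hgA).symm.trans (by rw [← pow_one 2, ← hj', pow_orderOf_eq_one])) hb1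
        · exact le_of_eq hj'.symm
      rw [heq, hmax]
      rfl
  · have hMCN : ∀ N : Subgroup S, N.index = 2 → N ≠ A → MC N := by
      intro N hN hNA
      obtain ⟨g, hgN, hgA⟩ := hout N hN hNA
      obtain ⟨j, rfl⟩ := hg g hgA
      have ha2 : a ^ (2 : ℤ) ∈ N := by
        rw [show (2 : ℤ) = ((2 : ℕ) : ℤ) from rfl, zpow_natCast]
        exact frattini_le_of_index hN (CfsgLib.pow_mem_frattini_pGroup hS a)
      have hcomm : ⁅b * a ^ j, a ^ (2 : ℤ)⁆ = a ^ (2 * (r - 1)) := by
        rw [commutatorElement_def,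
          show b * a ^ j * a ^ (2 : ℤ) * (b * a ^ j)⁻¹ * (a ^ (2 : ℤ))⁻¹ =
            b * (a ^ j * a ^ (2 : ℤ) * (a ^ j)⁻¹) * b⁻¹ * (a ^ (2 : ℤ))⁻¹ by group,
          show a ^ j * a ^ (2 : ℤ) * (a ^ j)⁻¹ = a ^ (2 : ℤ) by group, hcj, ← zpow_neg, ← zpow_add]
        congr 1
        ring
      have hx : a ^ (2 * (r - 1)) ∈ (⁅N, N⁆ : Subgroup S) := hcomm ▸ Subgroup.commutator_mem_commutator hgN ha2
      have hodd : ¬ (2 : ℤ) ∣ (r - 1) / 2 ∧ (2 : ℤ) ∣ r - 1 := by
        obtain ⟨t, ht⟩ := hdvd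
        obtain ⟨e', rfl⟩ : ∃ e', e = e' + 1 := ⟨e - 1, by omega⟩
        rw [pow_succ, pow_succ, mul_assoc, mul_assoc] at ht
        generalize (2 : ℤ) ^ e' = w at ht
        have : r - 1 = 2 * (2 * (w * t) - 1) := by linarith
        rw [this]
        omega
      have h4mem : a ^ (2 * (r - 1)) ∈ Subgroup.zpowers ((a ^ 2) ^ 2) := by
        refine Subgroup.mem_zpowers_iff.mpr ⟨(r - 1) / 2, ?_⟩
        rw [← zpow_natCast, ← zpow_natCast, ← zpow_mul, ← zpow_mul]
        congr 1
        have := Int.mul_ediv_cancel' hodd.2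
        push_cast
        linarith
      have hnot : a ^ (2 * (r - 1)) ∉ Subgroup.zpowers (((a ^ 2) ^ 2) ^ 2) := by
        intro hmem
        obtain ⟨i, hi⟩ := Subgroup.mem_zpowers_iff.mp hmem
        rw [← zpow_natCast, ← zpow_natCast, ← zpow_natCast, ← zpow_mul, ← zpow_mul, ← zpow_mul] at hi
        have h1 : a ^ ((2 : ℤ) * 2 * ((r - 1) / 2 - 2 * i)) = 1 := by
          rw [show (2 : ℤ) * 2 * ((r - 1) / 2 - 2 * i) = 2 * (2 * ((r - 1) / 2)) - ((2 : ℕ) : ℤ) * (((2 : ℕ) : ℤ) * (((2 : ℕ) : ℤ) * i)) by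
            push_cast; ring, Int.mul_ediv_cancel' hodd.2, zpow_sub, ← hi, mul_inv_cancel]
        have h2 := orderOf_dvd_iff_zpow_eq_one.mpr h1
        rw [hoa] at h2
        obtain ⟨e', rfl⟩ : ∃ e', e = e' + 1 := ⟨e - 1, by omega⟩
        push_cast at h2
        rw [show (2 : ℤ) ^ (e' + 1 + 1 + 1) = 2 * 2 * (2 * 2 ^ e') by ring] at h2
        have h3 := (mul_dvd_mul_iff_left (by norm_num : (2 : ℤ) * 2 ≠ 0)).mp h2
        have h4 : (2 : ℤ) ∣ (r - 1) / 2 - 2 * i := (dvd_mul_right 2 _).trans h3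
        exact hodd.1 (by omega)
      have hle : Subgroup.zpowers ((a ^ 2) ^ 2) ≤ (⁅N, N⁆ : Subgroup S) := by
        rw [← zpowers_eq_of_not_mem hS h4mem hnot]
        exact Subgroup.zpowers_le.mpr hx
      have hcN : Nat.card N = 2 ^ (e + 2) := by rw [card_of_index hn hN (by omega)]; rfl
      have ho : orderOf ((a ^ 2) ^ 2) = 2 ^ e := orderOf_pow_p (orderOf_pow_p hoa)
      have hdv : 2 ^ e ∣ Nat.card (⁅N, N⁆ : Subgroup S) := by
        have := Subgroup.card_dvd_of_le hle
        rwa [Nat.card_zpowers, ho] at this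
      have hprod : Nat.card (⁅N, N⁆ : Subgroup S) * (commutator N).index = 2 ^ (e + 2) := by
        rw [← Subgroup.map_subtype_commutator, Subgroup.card_map_of_injective N.subtype_injective,
          Subgroup.card_mul_index, hcN]
      have hncN : ¬ IsCyclic N := fun hc => by
        haveI := hc
        have h1 : Nat.card (⁅N, N⁆ : Subgroup S) = 1 := by
          rw [← Subgroup.map_subtype_commutator, Subgroup.card_map_of_injective N.subtype_injective,
            commutator_eq_bot_of_cyclic, Subgroup.card_bot]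
        rw [h1, Nat.dvd_one, Nat.pow_eq_one] at hdv
        omega
      obtain ⟨c, hc⟩ := hdv
      rw [hc, pow_add, mul_assoc, Nat.mul_right_inj (pow_pos two_pos e).ne'] at hprod
      obtain ⟨j, hj, hj'⟩ := (Nat.dvd_prime_pow Nat.prime_two).mp (hprod ▸ dvd_mul_left _ c)
      obtain ⟨h2, h1⟩ := commutator_index_ne (hS.to_subgroup N) hncN
      interval_cases j
      · exact absurd (by rw [hj', pow_zero]) h1
      · exact absurd (by rw [hj', pow_one]) h2
      · refine ⟨?_, by rw [hj']; norm_num⟩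
        rw [hcN]
        exact le_trans (by norm_num : 8 ≤ 2 ^ 3) (Nat.pow_le_pow_right (by norm_num) (by omega))
    have heqc : {M : Subgroup S | M.index = 2 ∧ IsCyclic M} = {A} := by
      ext N
      simp only [Set.mem_ofPred_eq, Set.mem_singleton_iff]
      refine ⟨fun hN => ?_, fun hN => hN ▸ ⟨hAi, hAc⟩⟩
      by_contra hNA
      exact not_cyclic_of_MC (hMCN N hN.1 hNA) hN.2
    have heqm : {M : Subgroup S | M.index = 2 ∧ MC M} = {M : Subgroup S | M.index = 2} \ {A} := by
      ext N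
      simp only [Set.mem_ofPred_eq, Set.mem_diff, Set.mem_singleton_iff]
      exact ⟨fun hN => ⟨hN.1, fun hNA => not_cyclic_of_MC hN.2 (hNA ▸ hAc)⟩, fun hN => ⟨hN.1, hMCN N hN.1 hN.2⟩⟩
    refine ⟨by rw [heqc, Set.ncard_singleton], ?_⟩
    rw [heqm, Set.ncard_diff_singleton_of_mem (show A ∈ _ from hAi), hmax]
    rfl

theorem main : ∀ (m : ℕ) (G : Type u) [Group G] [Finite G], Nat.card G = p ^ m → ∀ k, 1 ≤ k → k + 1 ≤ m →
    cnt G p k ≡ 1 + p * (@ite ℕ (Good G p k) (Classical.propDecidable _) 1 0) [MOD p ^ 2] := by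
  classical
  intro m
  induction m using Nat.strong_induction_on with
  | _ m ih =>
  intro G _ _ hm k hk1 hk
  have hG : IsPGroup p G := IsPGroup.of_card hm
  by_cases hcyc : IsCyclic G
  · have h0 : ¬ Good G p k := fun h => h.1 hcyc
    rw [if_neg h0, mul_zero, add_zero, cnt_cyclic (hm ▸ pow_dvd_pow p (by omega)) hp.out.ne_zero]
  haveI : Nontrivial G := by
    rw [← Finite.one_lt_card_iff_nontrivial, hm]
    exact Nat.one_lt_pow (by omega) hp.out.one_lt
  haveI := Fintype.ofFinite {M : Subgroup G // M.index = p}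
  have hmax : Nat.card {M : Subgroup G // M.index = p} ≡ 1 + p [MOD p ^ 2] := by
    have h := count_over (p := p) hG (bot_ne_top : (⊥ : Subgroup G) ≠ ⊤)
    rwa [bot_sup_eq, if_neg (index_frattini hG hcyc).1, mul_one,
      Nat.card_congr (Equiv.subtypeEquivRight (q := fun M : Subgroup G => M.index = p)
        fun M => ⟨fun h => h.1, fun h => ⟨h, bot_le⟩⟩)] at h
  rcases (show k + 1 = m ∨ k + 2 ≤ m by omega) with hkm | hkm
  · have hgood : Good G p k := ⟨hcyc, fun h => by
      have h1 := h.2.2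
      rw [hm, Nat.pow_le_pow_iff_right hp.out.one_lt] at h1
      omega⟩
    rw [if_pos hgood, mul_one]
    refine Nat.ModEq.trans ?_ hmax
    refine congrArg (· % p ^ 2) ?_
    refine Nat.card_congr (Equiv.subtypeEquivRight fun M => ?_)
    have h := M.card_mul_index
    rw [hm, ← hkm, pow_succ] at h
    constructor
    · intro hM
      rw [hM] at h
      exact Nat.eq_of_mul_eq_mul_left (pow_pos hp.out.pos k) h
    · intro hM
      rw [hM] at h
      exact Nat.eq_of_mul_eq_mul_right hp.out.pos h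
  have hsum := enumeration hG hcyc (k := k) (hm ▸ Nat.pow_le_pow_right hp.out.pos hkm)
  have hM : ∀ M : {M : Subgroup G // M.index = p}, Nat.card M.1 = p ^ (m - 1) := fun M =>
    card_of_index hm M.2 (by omega)
  rw [← ZMod.natCast_eq_natCast_iff] at hsum hmax ⊢
  simp only [Nat.cast_sum, Nat.cast_add, Nat.cast_one, Nat.cast_mul] at hsum hmax ⊢
  rw [Finset.sum_congr rfl fun M _ => (ZMod.natCast_eq_natCast_iff _ _ _).mpr (ih (m - 1) (by omega) M.1 (hM M) k hk1 (by omega)),
    ] at hsum
  simp only [Nat.cast_add, Nat.cast_one, Nat.cast_mul, Finset.sum_add_distrib, ← Finset.mul_sum, Finset.sum_const,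
    Finset.card_univ, nsmul_eq_mul, mul_one, ← Nat.card_eq_fintype_card, hmax, Finset.sum_boole,
    Nat.cast_ite, Nat.cast_zero] at hsum
  set g : ℕ := (Finset.univ.filter fun M : {M : Subgroup G // M.index = p} => Good M.1 p k).card with hg
  have hg1 : g ≡ (if Good G p k then 1 else 0) [MOD p] := by
    let bad := {M : Subgroup G | M.index = p ∧ ¬ Good M p k}
    have hsplit : g + bad.ncard = Nat.card {M : Subgroup G // M.index = p} := by
      have e : bad.ncard = (Finset.univ.filter fun M : {M : Subgroup G // M.index = p} => ¬ Good M.1 p k).card := by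
        rw [← Nat.card_coe_set_eq, ← Fintype.card_subtype, ← Nat.card_eq_fintype_card]
        exact Nat.card_congr
          { toFun := fun M => ⟨⟨M.1, M.2.1⟩, M.2.2⟩
            invFun := fun M => ⟨M.1.1, M.1.2, M.2⟩
            left_inv := fun M => rfl
            right_inv := fun M => rfl }
      rw [e, hg, Finset.card_filter_add_card_filter_not, Finset.card_univ, Nat.card_eq_fintype_card]
    let C := {M : Subgroup G | M.index = p ∧ IsCyclic M}
    let D := {M : Subgroup G | M.index = p ∧ p = 2 ∧ MC M ∧ p ^ (k + 2) ≤ p ^ (m - 1)}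
    have hbad : bad = C ∪ D := by
      ext M
      simp only [bad, C, D, Good, Set.mem_ofPred_eq, Set.mem_union, not_and_or, not_not, ← and_or_left]
      refine and_congr_right fun h => ?_
      rw [card_of_index hm h (by omega)]
      tauto
    have hdisj : Disjoint C D := Set.disjoint_left.mpr fun M h1 h2 => not_cyclic_of_MC h2.2.2.1 h1.2
    have hbadc : bad.ncard = C.ncard + D.ncard := by rw [hbad, Set.ncard_union_eq hdisj]
    have hbad' : bad.ncard ≡ (if Good G p k then 0 else 1) [MOD p] := by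
      have hgood : Good G p k ↔ ¬ (p = 2 ∧ MC G) := by
        refine ⟨fun h h' => h.2 ⟨h'.1, h'.2, hm ▸ Nat.pow_le_pow_right hp.out.pos hkm⟩,
          fun h => ⟨hcyc, fun h' => h ⟨h'.1, h'.2.1⟩⟩⟩
      rw [hbadc]
      by_cases h2 : p = 2
      · subst h2
        have hD : D.ncard ≡ 0 [MOD 2] := by
          by_cases hs : 2 ^ (k + 2) ≤ 2 ^ (m - 1)
          · have : D = {M : Subgroup G | M.index = 2 ∧ MC M} :=
              Set.ext fun M => ⟨fun h => ⟨h.1, h.2.2.1⟩, fun h => ⟨h.1, rfl, h.2, hs⟩⟩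
            rw [this]
            by_cases hmc : MC G
            · exact (counts_of_MC hG hmc).2
            · exact ncard_MC_max hG hcyc hmc
          · have : D = ∅ := Set.eq_empty_of_forall_notMem fun M h => hs h.2.2.2
            rw [this, Set.ncard_empty]
        by_cases hmc : MC G
        · rw [if_neg (fun h => hgood.mp h ⟨rfl, hmc⟩)]
          exact (counts_of_MC hG hmc).1.add hD
        · rw [if_pos (hgood.mpr fun h => hmc h.2)]
          exact (ncard_cyclic_max hG hcyc hm (by omega) fun h => hmc h.2).add hD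
      · have : D = ∅ := Set.eq_empty_of_forall_notMem fun M h => h2 h.2.1
        rw [this, Set.ncard_empty, add_zero, if_pos (hgood.mpr fun h => h2 h.1)]
        exact ncard_cyclic_max hG hcyc hm (by omega) fun h => h2 h.1
    have h1 : g + bad.ncard ≡ 1 [MOD p] := by
      rw [hsplit, ← ZMod.natCast_eq_natCast_iff]
      have := congrArg (ZMod.castHom (dvd_pow_self p two_ne_zero) (ZMod p)) hmax
      simpa using this
    split at hbad' <;> rename_i hgd
    · rw [if_pos hgd]
      exact ((Nat.ModEq.refl g).add hbad').symm.trans h1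
    · rw [if_neg hgd]
      exact Nat.ModEq.add_right_cancel' 1 (((Nat.ModEq.refl g).add hbad').symm.trans h1)
  have hg2 := Nat.ModEq.mul_left' p hg1
  rw [← pow_two, ← ZMod.natCast_eq_natCast_iff] at hg2
  push_cast at hg2 ⊢
  linear_combination -hsum + hg2

end CfsgLib.Kulakoff
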